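import Cfsg.Agent.H619.Gow.GTwo
import Cfsg.Agent.Nodes.RGDTwNode
import Cfsg.Agent.ChevalleyStructure.D4H1

/-!
# `RatOdd` for `³D₄(q)`, `q` even (S4913, task 921, helper619)
-/

set_option autoImplicit false

open scoped ComplexConjugate
open Cfsg

namespace Cfsg.Agent.H619.Gow

open CoxeterSystem Cfsg.Agent.ChevalleyStructure.CoxeterGeom Cfsg.Agent.Tits.Roots Cfsg.Agent.Tits.Core
  Cfsg.Agent.Tits.Exchange Cfsg.Agent.Nodes.Reps Cfsg.Agent.Nodes.BNOf Cfsg.Agent.Nodes.StabComb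
  Cfsg.Agent.Nodes.Bruhat Cfsg.Agent.Nodes.OppDec Cfsg.Agent.Nodes.LeviDec Cfsg.Agent.H53.HC
open Cfsg.Agent.H636.Gow Cfsg.Agent.H650.GowLin
open Cfsg.Agent.ChevalleyStructure.SL2Hom (up lo mem_closure_SL2)
open Cfsg.Agent.Nodes.RGDFoldSL (wS hS coe_wS coe_hS lo_eq psi psi_up psi_lo psi_wS psi_hS psi_mem map_hS Phi Phi_wS
  Phi_hS Phi_up_injective coe_Phi_up mem_X_iff Fx mem_Fx hv yv)
open Cfsg.Lie Cfsg.Agent.ChevalleyStructure Cfsg.Agent.ChevalleyStructure.Elts Cfsg.Agent.ChevalleyStructure.NPerm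
  Cfsg.Agent.Nodes.RGDChev

local notation "SL2 " F => Matrix.SpecialLinearGroup (Fin 2) F

/-- the length of the orbit of the node -/
abbrev ln (i : Fin 2) : ℕ := (Nodes.RGDTwNode.D4.rest i).length + 1

section Nodes

variable {K : Type*} [Field K] {q : ℕ} {φ : K →+* K}

theorem d4_hf (φ : K →+* K) (i : Fin 2) : ∀ s ∈ Nodes.RGDTwNode.D4.rep i :: Nodes.RGDTwNode.D4.rest i, ∀ t,
    ((Nodes.RGDTwD4.eps s : ℤ) : K) * φ t = φ t :=
  fun s hs t => by rw [Nodes.RGDTwNode.D4.eps_one i s hs, Int.cast_one, one_mul]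

variable (hφ : ∀ x, φ x = x ^ q) (hle : twistedD4 K q ≤ D4Fixed.fix φ)

/-- the homomorphism of the node `i` -/
noncomputable def Pd (i : Fin 2) : (SL2 (Fx φ (ln i))) →* ↥(twistedD4 K q) :=
  Phi (Nodes.RGDTwD4.foldGrp hφ hle) (Nodes.RGDTwNode.D4.nodeOK i) (d4_hf φ i)

theorem nd_tw {W : Type*} [Group W] (cs : CoxeterSystem CoxeterMatrix.G₂ W) (i : Fin 2) :
    Nd cs Nodes.RGDTwD4.isCartan (Nodes.RGDTwD4.T K q) (Nodes.RGDTwD4.n hφ) (Nodes.RGDTwD4.X φ q) i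
      (Pd hφ hle i) where
  mem_X g := mem_X_iff (Nodes.RGDTwD4.foldGrp hφ hle) (Nodes.RGDTwNode.D4.nodeOK i) (d4_hf φ i) g
  w1 := Phi_wS (Nodes.RGDTwD4.foldGrp hφ hle) (Nodes.RGDTwNode.D4.nodeOK i) (d4_hf φ i)
  h1 _ hd := Phi_hS (Nodes.RGDTwD4.foldGrp hφ hle) (Nodes.RGDTwNode.D4.nodeOK i) (d4_hf φ i) hd
  inj_up _ _ hab := Phi_up_injective (Nodes.RGDTwD4.foldGrp hφ hle) (Nodes.RGDTwNode.D4.nodeOK i) (d4_hf φ i) hab

theorem coe_h0 (d : Fx φ (ln 0)) :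
    ((Pd hφ hle 0 (hS d) : ↥(twistedD4 K q)) : GL chevD4.Idx K) = hG Nodes.RGDTwD4.hp.inList 14 (d : K) := by
  show hv (psi Nodes.RGDTwD4.hp.inList K) φ [14] (Matrix.SpecialLinearGroup.map (Fx φ _).subtype (hS d)) = _
  rw [map_hS]
  show psi Nodes.RGDTwD4.hp.inList K 14 (hS (d : K)) * 1 = _
  rw [mul_one, psi_hS _ (by decide +kernel)]

theorem coe_h1 (d : Fx φ (ln 1)) :
    ((Pd hφ hle 1 (hS d) : ↥(twistedD4 K q)) : GL chevD4.Idx K) =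
    hG Nodes.RGDTwD4.hp.inList 18 (d : K) * (hG Nodes.RGDTwD4.hp.inList 13 (φ (d : K)) *
      hG Nodes.RGDTwD4.hp.inList 12 (φ (φ (d : K)))) := by
  show hv (psi Nodes.RGDTwD4.hp.inList K) φ [18, 13, 12] (Matrix.SpecialLinearGroup.map (Fx φ _).subtype (hS d)) = _
  rw [map_hS]
  show psi Nodes.RGDTwD4.hp.inList K 18 (hS (d : K)) * (psi Nodes.RGDTwD4.hp.inList K 13
    (Matrix.SpecialLinearGroup.map φ (hS (d : K))) * (psi Nodes.RGDTwD4.hp.inList K 12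
      (Matrix.SpecialLinearGroup.map φ (Matrix.SpecialLinearGroup.map φ (hS (d : K)))) * 1)) = _
  rw [map_hS, map_hS, psi_hS _ (by decide +kernel), psi_hS _ (by decide +kernel), psi_hS _ (by decide +kernel),
    mul_one]

theorem coe_up0 (d : Fx φ (ln 0)) :
    ((Pd hφ hle 0 (up d) : ↥(twistedD4 K q)) : GL chevD4.Idx K) = xG Nodes.RGDTwD4.hp.inList 14 (d : K) :=
  (coe_Phi_up (Nodes.RGDTwD4.foldGrp hφ hle) (Nodes.RGDTwNode.D4.nodeOK 0) (d4_hf φ 0) d).trans (mul_one _)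

theorem coe_up1 (d : Fx φ (ln 1)) :
    ((Pd hφ hle 1 (up d) : ↥(twistedD4 K q)) : GL chevD4.Idx K) =
    xG Nodes.RGDTwD4.hp.inList 18 (d : K) * (xG Nodes.RGDTwD4.hp.inList 13 (φ (d : K)) *
      xG Nodes.RGDTwD4.hp.inList 12 (φ (φ (d : K)))) := by
  refine (coe_Phi_up (Nodes.RGDTwD4.foldGrp hφ hle) (Nodes.RGDTwNode.D4.nodeOK 1) (d4_hf φ 1) d).trans ?_
  show xG Nodes.RGDTwD4.hp.inList 18 (d : K) * (xG Nodes.RGDTwD4.hp.inList 13 (φ (d : K)) *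
      (xG Nodes.RGDTwD4.hp.inList 12 (φ (φ (d : K))) * 1)) = _
  rw [mul_one]

/-- `h_r(c) x_s(t) h_r(c)⁻¹ = x_s(c⁻¹ t)` if the Cartan number is `-1` -/
theorem conj_neg_one {i s r : ℕ} (hi : i < chevD4.rank) (hs : s < chevD4.nroots) (hr : chevD4.simple i = r)
    (hc1 : chevD4.cartan i s = -1) {c : K} (hc : c ≠ 0) (t : K) :
    hG Nodes.RGDTwD4.hp.inList r c * xG Nodes.RGDTwD4.hp.inList s t * (hG Nodes.RGDTwD4.hp.inList r c)⁻¹ =
      xG Nodes.RGDTwD4.hp.inList s (c⁻¹ * t) := by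
  subst hr
  have h1 := Cfsg.Agent.ChevalleyStructure.BruhatSplit.hG_simple_conj Nodes.RGDTwD4.hp.inList hi hs hc t
  rwa [hc1, zpow_neg, zpow_one] at h1

theorem act01 (s : Fx φ (ln 0)) (hs : s ≠ 0) (hsφ : φ (s : K) = s) (a b : Fx φ (ln 1)) (hab : (b : K) = (s : K)⁻¹ * a) :
    Pd hφ hle 0 (hS s) * Pd hφ hle 1 (up a) * (Pd hφ hle 0 (hS s))⁻¹ = Pd hφ hle 1 (up b) := by
  apply Subtype.ext
  rw [Subgroup.coe_mul, Subgroup.coe_mul, Subgroup.coe_inv, coe_h0, coe_up1, coe_up1, hab]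
  have hs' : (s : K) ≠ 0 := fun h => hs (Subtype.ext h)
  have e1 := conj_neg_one (K := K) (i := 1) (s := 18) (r := 14) (by decide +kernel) (by decide +kernel)
    (by decide +kernel) (by decide +kernel) hs' (a : K)
  have e2 := conj_neg_one (K := K) (i := 1) (s := 13) (r := 14) (by decide +kernel) (by decide +kernel)
    (by decide +kernel) (by decide +kernel) hs' (φ (a : K))
  have e3 := conj_neg_one (K := K) (i := 1) (s := 12) (r := 14) (by decide +kernel) (by decide +kernel)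
    (by decide +kernel) (by decide +kernel) hs' (φ (φ (a : K)))
  rw [map_mul, map_mul, map_inv₀, hsφ, map_inv₀, hsφ, ← e1, ← e2, ← e3]
  group

theorem act10 (s : Fx φ (ln 1)) (hs : s ≠ 0) (a b : Fx φ (ln 0))
    (hab : (b : K) = ((s : K) * φ s * φ (φ s))⁻¹ * a) :
    Pd hφ hle 1 (hS s) * Pd hφ hle 0 (up a) * (Pd hφ hle 1 (hS s))⁻¹ = Pd hφ hle 0 (up b) := by
  apply Subtype.ext
  rw [Subgroup.coe_mul, Subgroup.coe_mul, Subgroup.coe_inv, coe_h1, coe_up0, coe_up0, hab]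
  have hs' : (s : K) ≠ 0 := fun h => hs (Subtype.ext h)
  have hs1 : φ (s : K) ≠ 0 := (map_ne_zero φ).2 hs'
  have hs2 : φ (φ (s : K)) ≠ 0 := (map_ne_zero φ).2 hs1
  have e1 := conj_neg_one (K := K) (i := 3) (s := 14) (r := 12) (by decide +kernel) (by decide +kernel)
    (by decide +kernel) (by decide +kernel) hs2 (a : K)
  have e2 := conj_neg_one (K := K) (i := 2) (s := 14) (r := 13) (by decide +kernel) (by decide +kernel)
    (by decide +kernel) (by decide +kernel) hs1 ((φ (φ (s : K)))⁻¹ * (a : K))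
  have e3 := conj_neg_one (K := K) (i := 0) (s := 14) (r := 18) (by decide +kernel) (by decide +kernel)
    (by decide +kernel) (by decide +kernel) hs' ((φ (s : K))⁻¹ * ((φ (φ (s : K)))⁻¹ * (a : K)))
  have e : ((s : K) * φ s * φ (φ s))⁻¹ * (a : K) = (s : K)⁻¹ * ((φ (s : K))⁻¹ * ((φ (φ (s : K)))⁻¹ * (a : K))) := by
    rw [mul_inv, mul_inv, mul_assoc, mul_assoc]
  rw [e, ← e3, ← e2, ← e1]
  group

theorem mem_Fx3 [Fintype K] (hK : Fintype.card K = q ^ 3) (hφ : ∀ x, φ x = x ^ q) (t : K) : φ (φ (φ t)) = t := by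
  rw [hφ, hφ, hφ, ← pow_mul, ← pow_mul]
  have : q * (q * q) = q ^ 3 := by ring
  rw [this, ← hK]
  exact FiniteField.pow_card t

theorem fx1 (s : Fx φ (ln 0)) : φ (s : K) = s := mem_Fx.1 s.2

/-- the norm -/
def nm (h3 : ∀ t : K, φ (φ (φ t)) = t) : Fx φ (ln 1) →* Fx φ (ln 0) where
  toFun t := ⟨(t : K) * φ t * φ (φ t), mem_Fx.2 (by
    show φ ((t : K) * φ t * φ (φ t)) = _
    rw [map_mul, map_mul, h3, mul_comm, ← mul_assoc])⟩
  map_one' := by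
    apply Subtype.ext
    show ((1 : K)) * φ 1 * φ (φ 1) = 1
    rw [map_one, map_one, mul_one, mul_one]
  map_mul' s t := by
    apply Subtype.ext
    show ((s : K) * t) * φ ((s : K) * t) * φ (φ ((s : K) * t)) = ((s : K) * φ s * φ (φ s)) * ((t : K) * φ t * φ (φ t))
    rw [map_mul, map_mul]
    ring

theorem nm_surj [Fintype K] (hq1 : 1 < q) (hK : Fintype.card K = q ^ 3) (hφ : ∀ x, φ x = x ^ q)
    (h3 : ∀ t : K, φ (φ (φ t)) = t) (u : (Fx φ (ln 0))ˣ) : ∃ t : (Fx φ (ln 1))ˣ, Units.map (nm h3) t = u := by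
  classical
  obtain ⟨g, hg⟩ := IsCyclic.exists_generator (α := Kˣ)
  have hu0 : ((u : Fx φ (ln 0)) : K) ≠ 0 := fun h => u.ne_zero (Subtype.ext h)
  obtain ⟨k, hk⟩ := mem_powers_iff_mem_zpowers.2 (hg (Units.mk0 _ hu0))
  have hog : orderOf g = q ^ 3 - 1 := by
    rw [orderOf_eq_card_of_forall_mem_zpowers hg, Nat.card_eq_fintype_card, Fintype.card_units, hK]
  have h1 : (Units.mk0 _ hu0) ^ (q - 1) = 1 := by
    apply Units.ext
    rw [Units.val_pow_eq_pow_val, Units.val_mk0, Units.val_one]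
    have h2 : ((u : Fx φ (ln 0)) : K) ^ q = ((u : Fx φ (ln 0)) : K) := (hφ _).symm.trans (fx1 _)
    have h4 : ((u : Fx φ (ln 0)) : K) ^ (q - 1) * ((u : Fx φ (ln 0)) : K) = 1 * ((u : Fx φ (ln 0)) : K) := by
      rw [← pow_succ, Nat.sub_add_cancel hq1.le, h2, one_mul]
    exact mul_right_cancel₀ hu0 h4
  have h2 : (q ^ 2 + q + 1) * (q - 1) ∣ k * (q - 1) := by
    have e : (q ^ 2 + q + 1) * (q - 1) = q ^ 3 - 1 := by
      zify [hq1.le, Nat.one_le_pow 3 q (by omega)]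
      ring
    rw [e, ← hog]
    apply orderOf_dvd_of_pow_eq_one
    rw [pow_mul]
    exact (congrArg (· ^ (q - 1)) hk).trans h1
  obtain ⟨m, hm⟩ := Nat.dvd_of_mul_dvd_mul_right (by omega) h2
  have hgm : ((g ^ m : Kˣ) : K) ∈ Fx φ (ln 1) := mem_Fx.2 (h3 _)
  refine ⟨Units.mk0 ⟨((g ^ m : Kˣ) : K), hgm⟩ fun h => (g ^ m).ne_zero (congrArg Subtype.val h), ?_⟩
  apply Units.ext
  apply Subtype.ext
  show ((g ^ m : Kˣ) : K) * φ ((g ^ m : Kˣ) : K) * φ (φ ((g ^ m : Kˣ) : K)) = ((u : Fx φ (ln 0)) : K)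
  rw [hφ, hφ, ← pow_mul]
  have h5 : (((g : Kˣ) : K) ^ m) ^ (q ^ 2 + q + 1) = ((u : Fx φ (ln 0)) : K) := by
    rw [← pow_mul, mul_comm, ← hm]
    exact congrArg Units.val hk
  rw [← h5, Units.val_pow_eq_pow_val]
  ring

end Nodes

/-- **Task 921: `³D₄(q)`, `q` even.** -/
theorem tw_d_four (K : Type*) [Field K] [Fintype K] [CharP K 2] (q : ℕ) (hq : IsPrimePow q)
    (hK : Fintype.card K = q ^ 3) : RatOdd (Lie.twistedD4 K q) := by
  have : Fact (Nat.Prime 2) := ⟨Nat.prime_two⟩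
  obtain ⟨φ, hφ⟩ := D4Fixed.exists_frob hq hK
  have hle := D4Fixed.twisted_le_fix hK hφ
  have h3 := fun t => mem_Fx3 (φ := φ) hK hφ t
  have : Finite CoxeterMatrix.G₂.Group := finite_W isTypeG2 CoxeterMatrix.G₂.toCoxeterSystem
  have R := Nodes.RGDTwD4.rgd (K := K) CoxeterMatrix.G₂.toCoxeterSystem hK hφ 2
  have hG : GG CoxeterMatrix.G₂.toCoxeterSystem Nodes.RGDTwD4.isCartan (Nodes.RGDTwD4.T K q)
      (Nodes.RGDTwD4.X φ q) = ⊤ :=
    Cfsg.Agent.KFacts.RgdFilt.GG_eq_top (Nodes.RGDTwD4.G1_eq_top CoxeterMatrix.G₂.toCoxeterSystem hK hφ)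
  have hT : ∀ x ∈ Nodes.RGDTwD4.T K q, ∀ y ∈ Nodes.RGDTwD4.T K q, x * y = y * x := by
    intro x hx y hy
    exact Subtype.ext (diag_comm Nodes.RGDTwD4.hp.inList (Subgroup.mem_inf.1 (Subgroup.mem_subgroupOf.1 hx)).1
      (Subgroup.mem_inf.1 (Subgroup.mem_subgroupOf.1 hy)).1)
  have hM10 : CoxeterMatrix.G₂ (1 : Fin 2) (0 : Fin 2) = 6 := by decide +kernel
  have hM01 : CoxeterMatrix.G₂ (0 : Fin 2) (1 : Fin 2) = 6 := by decide +kernel
  have N0 := nd_tw hφ hle CoxeterMatrix.G₂.toCoxeterSystem 0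
  have N1 := nd_tw hφ hle CoxeterMatrix.G₂.toCoxeterSystem 1
  have c0 : CharP (Fx φ (ln 0)) 2 := (RingHom.charP_iff _ (Fx φ (ln 0)).subtype.injective 2).2 inferInstance
  have c1 : CharP (Fx φ (ln 1)) 2 := (RingHom.charP_iff _ (Fx φ (ln 1)).subtype.injective 2).2 inferInstance
  have f0 : Finite (Fx φ (ln 0)) := inferInstance
  have f1 : Finite (Fx φ (ln 1)) := inferInstance
  by_cases hd : 3 ∣ Nat.card (Fx φ (ln 0)) - 1
  · obtain ⟨lam, hl3, u, hl1⟩ := exists_lam (F := Fx φ (ln 0)) (by rwa [Nat.card_units])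
    -- the inclusion of the fixed field
    let ic : (Fx φ (ln 0))ˣ → (Fx φ (ln 1))ˣ := fun s =>
      Units.mk0 ⟨((s⁻¹ : (Fx φ (ln 0))ˣ) : Fx φ (ln 0)), mem_Fx.2 (h3 _)⟩
        fun h => (s⁻¹).ne_zero (Subtype.ext (congrArg (fun x : Fx φ (ln 1) => (x : K)) h))
    refine ratOdd_two_lin R hG (two_nodes (by decide)) hM10 hT N1 N0 (lam.comp (Units.map (nm h3))) lam
      (fun t => hl3 _) hl3 ?_ ic ?_ (fun s => (Units.map (nm h3) s)⁻¹) ?_ ?_ ?_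
    · obtain ⟨t, ht⟩ := nm_surj hq.one_lt hK hφ h3 u
      exact ⟨t, by rw [MonoidHom.comp_apply, ht]; exact hl1⟩
    · intro s
      refine act01 hφ hle _ s.ne_zero (fx1 _) _ _ ?_
      show (((s⁻¹ : (Fx φ (ln 0))ˣ) : Fx φ (ln 0)) : K) * 1 = ((s : Fx φ (ln 0)) : K)⁻¹ * 1
      rw [Units.val_inv_eq_inv_val]
      rfl
    · intro s
      refine act10 hφ hle _ s.ne_zero _ _ ?_
      show ((((Units.map (nm h3) s)⁻¹ : (Fx φ (ln 0))ˣ) : Fx φ (ln 0)) : K) * 1 = _ * 1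
      rw [Units.val_inv_eq_inv_val]
      rfl
    · intro s
      have e : Units.map (nm h3) (ic s) = s⁻¹ ^ 3 := by
        apply Units.ext
        apply Subtype.ext
        have e1 : φ (((s⁻¹ : (Fx φ (ln 0))ˣ) : Fx φ (ln 0)) : K) = (((s⁻¹ : (Fx φ (ln 0))ˣ) : Fx φ (ln 0)) : K) := fx1 _
        show (((s⁻¹ : (Fx φ (ln 0))ˣ) : Fx φ (ln 0)) : K) * φ (((s⁻¹ : (Fx φ (ln 0))ˣ) : Fx φ (ln 0)) : K) *
          φ (φ (((s⁻¹ : (Fx φ (ln 0))ˣ) : Fx φ (ln 0)) : K)) = (((s⁻¹ ^ 3 : (Fx φ (ln 0))ˣ) : Fx φ (ln 0)) : K)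
        rw [e1, e1, Units.val_pow_eq_pow_val]
        show _ = (((s⁻¹ : (Fx φ (ln 0))ˣ) : Fx φ (ln 0)) : K) ^ 3
        ring
      rw [MonoidHom.comp_apply, e, map_pow, hl3]
    · intro s
      rw [map_inv]
      rfl
  · exact ratOdd_two_cusp R hG (two_nodes (by decide)) hM01 hT N0 hd

end Cfsg.Agent.H619.Gow
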