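import Cfsg.Agent.H619.Gow.WTwo
import Cfsg.Agent.H619.Gow.MackeyTwo
import Cfsg.Agent.H636.Gow.Par

/-!
# `RatOdd` for groups of type `G₂` from a cuspidal character of a rank one Levi subgroup (S4913, helper619)
-/

set_option autoImplicit false

open scoped ComplexConjugate
open Cfsg

namespace Cfsg.Agent.H619.Gow

open CoxeterSystem Cfsg.Agent.ChevalleyStructure.CoxeterGeom Cfsg.Agent.Tits.Roots Cfsg.Agent.Tits.Core
  Cfsg.Agent.Tits.Exchange Cfsg.Agent.Nodes.Reps Cfsg.Agent.Nodes.BNOf Cfsg.Agent.Nodes.StabComb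
  Cfsg.Agent.Nodes.Bruhat Cfsg.Agent.Nodes.OppDec Cfsg.Agent.Nodes.LeviDec Cfsg.Agent.H53.HC
open Cfsg.Agent.OddOrderCharacters.Clifford Cfsg.Agent.Characters Cfsg.Agent.H636.Gow
open Cfsg.Agent.ChevalleyStructure.SL2Hom (up lo mem_closure_SL2)
open Cfsg.Agent.Nodes.RGDFoldSL (wS hS coe_wS coe_hS lo_eq)

local notation "SL2 " F => Matrix.SpecialLinearGroup (Fin 2) F

theorem rat_indFun {G : Type*} [Group G] [Fintype G] (P : Subgroup G) {ψ : P → ℂ} (h : ∀ x, ∃ q : ℚ, ψ x = q) (g : G) :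
    ∃ q : ℚ, indFun P ψ g = q := by
  have h1 : ∀ x : G, ∃ q : ℚ, extendByZero P ψ (x⁻¹ * g * x) = q := by
    intro x
    by_cases hx : x⁻¹ * g * x ∈ P
    · obtain ⟨q, hq⟩ := h ⟨_, hx⟩
      exact ⟨q, by rw [ext_apply_mem P ψ _ hx, hq]⟩
    · exact ⟨0, by rw [ext_apply_not_mem P ψ _ hx]; simp⟩
  choose q hq using h1
  refine ⟨(Nat.card P : ℚ)⁻¹ * ∑ x, q x, ?_⟩
  rw [indFun_apply, Finset.sum_congr rfl fun x _ => hq x]
  push_cast
  rfl

section idx

variable {I W Y : Type*} [Fintype I] [DecidableEq I] [Group W] [Group Y] {M : CoxeterMatrix I}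
  {cs : CoxeterSystem M W} {A : I → I → ℤ} {h : IsCartan M A} {T : Subgroup Y} {n : I → Y}
  {X : (I → ℤ) → Subgroup Y}

theorem odd_index [Finite W] [Finite Y] (R : RGD cs h 2 T n X) (hG : GG cs h T X = ⊤) (J : Set I) :
    Odd (PJ cs h T X J).index := by
  have : Fact (Nat.Prime 2) := ⟨Nat.prime_two⟩
  have h1 := KFacts.RgdSyl.not_dvd_relIndex R
  rw [hG, Subgroup.relIndex_top_right] at h1
  have h2 : RGD.Sup X (RGD.Pos cs h) ≤ PJ cs h T X J := le_trans RGD.U_le_B B_le_PJ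
  have h3 := Subgroup.index_dvd_of_le h2
  rw [← Nat.not_even_iff_odd, even_iff_two_dvd]
  exact fun h4 => h1 (h4.trans h3)

end idx

variable {I W Y : Type*} [Fintype I] [DecidableEq I] [Group W] [Group Y] {M : CoxeterMatrix I}
  {cs : CoxeterSystem M W} {A : I → I → ℤ} {h : IsCartan M A} {T : Subgroup Y} {n : I → Y}
  {X : (I → ℤ) → Subgroup Y} {i j : I}

/-- **The cuspidal case.** -/
theorem ratOdd_cusp [Finite W] [Finite Y] (R : RGD cs h 2 T n X) (hG : GG cs h T X = ⊤) (hne : i ≠ j)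
    (hI : ∀ k : I, k = i ∨ k = j) (hij : M i j = 6) (hT : ∀ x ∈ T, ∀ y ∈ T, x * y = y * x)
    {F : Type*} [Field F] [Fintype F] [CharP F 2] {φ : (SL2 F) →* Y} (N : Nd cs h T n X i φ)
    {χ : (SL2 F) → ℂ} (hχ : IsIrrCharacter _ χ) (hrat : ∀ s, ∃ q : ℚ, χ s = q) (hodd : ∃ d : ℕ, Odd d ∧ χ 1 = d)
    (hsum : ∑ a : F, χ (up a) = 0) : RatOdd Y := by
  classical
  have : Fintype Y := Fintype.ofFinite Y
  obtain ⟨P, hP, π, hπ, hπV⟩ : ∃ P, P = PJ cs h T X ({i} : Set I) ∧ ∃ π : P →* (SL2 F),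
      (∀ (s : SL2 F) (hs : φ s ∈ P), π ⟨φ s, hs⟩ = s) ∧
      ∀ (v : Y) (hv : v ∈ VJ cs h X {i}) (hv' : v ∈ P), π ⟨v, hv'⟩ = 1 := by
    obtain ⟨π, hπ, hπV⟩ := exists_proj N R hT
    exact ⟨_, rfl, π, hπ, fun v hv _ => hπV v hv⟩
  have : Fintype P := Fintype.ofFinite P
  have hφP : ∀ s, φ s ∈ P := fun s => hP ▸ phi_mem_PJ N R s
  have hVP : VJ cs h X {i} ≤ P := hP ▸ VJ_le_PJ
  have hLP : LJ cs h T X {i} ≤ P := hP ▸ LJ_le_PJ
  have hsurj : Function.Surjective π := fun s => ⟨⟨φ s, hφP s⟩, hπ s _⟩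
  have hψ : IsIrrCharacter P (χ ∘ π) := Core.isIrr_comp π hsurj hχ
  have hc := Core.isIrr_isCharacter hψ
  have hcl := Core.isIrr_isClassFunction hψ
  have hΨ : IsCharacter Y (indFun P (χ ∘ π)) := Cfsg.Agent.S0148.result P _ hc
  -- vanishing
  have hvan : ∀ v g, Rp cs R.nsys v g → rep cs h v⁻¹ (sr i) ∈ NotJ cs h {i} → twist P (χ ∘ π) (χ ∘ π) g = 0 := by
    intro v g hg hv
    have hL : X (sr i) ≤ P := le_trans (X_le_LJ (sr_mem_rootsJ i)) hLP
    have hLV : ∀ l ∈ X (sr i), g⁻¹ * l * g ∈ VJ cs h X {i} := by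
      intro l hl
      have h1 : g⁻¹ * l * g ∈ X (rep cs h v⁻¹ (sr i)) := by
        have h2 := R.conj_mem hg.inv (isRoot_sr cs h i) hl
        rwa [inv_inv] at h2
      exact RGD.le_Sup hv h1
    have : Fintype (X (sr i)) := Fintype.ofFinite _
    refine twist_eq_zero_of_sub P hc hc g (X (sr i)) hL (fun l hl => hVP (hLV l hl)) ?_
    have h1 : ∀ l : X (sr i), (χ ∘ π) ⟨l, hL l.2⟩ * conj ((χ ∘ π) ⟨g⁻¹ * l * g, hVP (hLV l l.2)⟩) =
        (χ ∘ π) ⟨l, hL l.2⟩ * conj (χ 1) := by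
      intro l
      congr 2
      show χ (π _) = _
      rw [hπV _ (hLV l l.2)]
    rw [Finset.sum_congr rfl fun l _ => h1 l, ← Finset.sum_mul]
    have h2 : ∑ l : X (sr i), (χ ∘ π) ⟨l, hL l.2⟩ = ∑ a : F, χ (up a) := by
      symm
      refine Fintype.sum_bijective (fun a => (⟨φ (up a), (N.mem_X _).2 ⟨a, rfl⟩⟩ : X (sr i))) ⟨?_, ?_⟩ _ _ ?_
      · intro a b hab
        exact N.inj_up a b (congrArg Subtype.val hab)
      · rintro ⟨g, hg⟩
        obtain ⟨a, rfl⟩ := (N.mem_X _).1 hg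
        exact ⟨a, rfl⟩
      · intro a
        show _ = χ (π _)
        rw [hπ]
    rw [h2, hsum, zero_mul]
  obtain ⟨y, hy⟩ := exists_rp cs R.nsys (v5 cs i j)
  have hdich : ∀ x : Y, x ∉ P → (∃ a ∈ P, ∃ b ∈ P, x = a * y * b) ∨ twist P (χ ∘ π) (χ ∘ π) x = 0 := by
    intro x hx
    obtain ⟨a, ha, b, hb, v, g, hg, e, hv⟩ := exists_rep R hG hI hij (hP ▸ hx)
    rw [← hP] at ha hb
    rcases hv with rfl | rfl | rfl
    · right
      rw [e, twist_mul P hcl hcl ha hb]
      exact hvan _ g hg (v1_mem hne hij)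
    · right
      rw [e, twist_mul P hcl hcl ha hb]
      exact hvan _ g hg (v3_mem hne hij)
    · left
      refine ⟨a, ha, y⁻¹ * g * b, mul_mem (hLP (T_le_LJ (Rp.unique hy hg))) hb, ?_⟩
      rw [e]; group
  -- the norm
  have hnorm : ∃ k : ℕ, k ≤ 2 ∧ classInner (indFun P (χ ∘ π)) (indFun P (χ ∘ π)) = k := by
    by_cases hyP : y ∈ P
    · refine ⟨1, by norm_num, ?_⟩
      rw [classInner_indFun_eq P _ _ hcl]
      · rw [Core.classInner_irr_self hψ, Nat.cast_one]
      · intro x hx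
        rcases hdich x hx with ⟨a, ha, b, hb, rfl⟩ | h1
        · exact absurd (mul_mem (mul_mem ha hyP) hb) hx
        · exact h1
    · have hroots : ∀ x ∈ RootsJ cs h ({i} : Set I), rep cs h (v5 cs i j)⁻¹ x ∈ RootsJ cs h {i} := by
        intro x hx
        rw [v5_inv]
        rcases rootsJ_single hx with rfl | rfl
        · rw [rep_v5 hne hij]; exact hx
        · rw [map_neg, rep_v5 hne hij]; exact hx
      have hconj : ∀ s, ∃ s', y⁻¹ * φ s * y = φ s' := by
        intro s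
        have h1 : φ s ∈ MJ cs h X {i} := by
          rw [← range_eq_MJ N R]; exact ⟨s, rfl⟩
        have h2 : y⁻¹ * φ s * y ∈ MJ cs h X {i} := conj_mem_Sup' R hy (fun x hx => hx.1) hroots h1
        rw [← range_eq_MJ N R] at h2
        obtain ⟨s', hs'⟩ := h2
        exact ⟨s', hs'.symm⟩
      have hmem : ∀ s, y⁻¹ * φ s * y ∈ P := fun s => by
        obtain ⟨s', hs'⟩ := hconj s
        rw [hs']; exact hφP s'
      let f : (SL2 F) →* P := φ.codRestrict P hφP
      let f' : (SL2 F) →* P :=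
        { toFun := fun s => ⟨y⁻¹ * φ s * y, hmem s⟩
          map_one' := by
            apply Subtype.ext
            simp
          map_mul' := fun a b => by
            apply Subtype.ext
            simp [mul_assoc] }
      refine norm_le_two P hψ y hyP (fun x hx => ?_) f f' (fun s => rfl) ?_ ?_
      · rcases hdich x hx with h1 | h1
        · exact Or.inl h1
        · right
          intro inst
          convert h1
      · have : (χ ∘ π) ∘ f = χ := by
          funext s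
          show χ (π _) = _
          congr 1
          exact hπ s _
        rw [this]
        exact hχ
      · have hinj : Function.Injective (π.comp f') := by
          rw [injective_iff_map_eq_one]
          intro s hs
          obtain ⟨s', hs'⟩ := hconj s
          have h1 : π (f' s) = s' := by
            have h2 : f' s = ⟨φ s', hφP s'⟩ := Subtype.ext hs'
            rw [h2, hπ]
          have h3 : s' = 1 := by
            rw [← h1]; exact hs
          rw [h3, map_one] at hs'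
          have h4 : φ s = 1 := by
            have h5 : φ s = y * (y⁻¹ * φ s * y) * y⁻¹ := by group
            rw [h5, hs']; simp
          exact (injective_iff_map_eq_one φ).1 (N.injective R) s h4
        have hs2 : Function.Surjective (π.comp f') := Finite.surjective_of_injective hinj
        exact Core.isIrr_comp (π.comp f') hs2 hχ
  obtain ⟨k, hk, hk1⟩ := hnorm
  -- `ψ ≠ 1`
  have hψ1 : (χ ∘ π) ≠ 1 := by
    intro h1
    have h2 : ∀ s, χ s = 1 := by
      intro s
      have := congrFun h1 ⟨φ s, hφP s⟩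
      rwa [Function.comp_apply, hπ, Pi.one_apply] at this
    rw [Finset.sum_congr rfl fun a _ => h2 (up a), Finset.sum_const, Finset.card_univ] at hsum
    simp at hsum
  refine ratOdd_of_norm_le_two (ψ := indFun P (χ ∘ π)) ⟨_, 0, hΨ, Core.isCharacter_zero, by rw [sub_zero]⟩
    (rat_indFun P fun x => hrat (π x)) ?_ ?_ hk1 hk
  · rw [classInner_indFun P (χ ∘ π) _ (fun g x => rfl)]
    exact Core.classInner_irr_ne hψ Core.isIrr_one (fun h2 => hψ1 h2)
  · obtain ⟨d, hd, hd1⟩ := hodd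
    refine ⟨((P.index * d : ℕ) : ℤ), ?_, ?_⟩
    · rw [Int.odd_coe_nat]
      exact (hP ▸ odd_index R hG {i} : Odd P.index).mul hd
    · rw [indFun_one, Function.comp_apply, map_one, hd1]
      push_cast
      ring

end Cfsg.Agent.H619.Gow
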