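import Cfsg.Agent.H619.Gow.RankTwo
import Cfsg.Agent.Nodes.RGDChev
import Cfsg.Agent.KFacts.RgdFilt
import Cfsg.Agent.ChevalleyStructure.BruhatSplit

/-!
# `RatOdd` for `G₂(q)` and `³D₄(q)`, `q` even (S4913, tasks 920 and 921, helper619)
-/

set_option autoImplicit false

open scoped ComplexConjugate
open Cfsg

namespace Cfsg.Agent.H619.Gow

open CoxeterSystem Cfsg.Agent.ChevalleyStructure.CoxeterGeom Cfsg.Agent.Tits.Roots Cfsg.Agent.Tits.Core
  Cfsg.Agent.Tits.Exchange Cfsg.Agent.Nodes.Reps Cfsg.Agent.Nodes.BNOf Cfsg.Agent.Nodes.StabComb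
  Cfsg.Agent.Nodes.Bruhat Cfsg.Agent.Nodes.OppDec Cfsg.Agent.Nodes.LeviDec Cfsg.Agent.H53.HC
open Cfsg.Agent.H636.Gow Cfsg.Agent.H650.GowLin
open Cfsg.Agent.ChevalleyStructure.SL2Hom (up lo mem_closure_SL2)
open Cfsg.Agent.Nodes.RGDFoldSL (wS hS coe_wS coe_hS lo_eq psi psi_up psi_lo psi_wS psi_hS psi_mem)
open Cfsg.Lie Cfsg.Agent.ChevalleyStructure Cfsg.Agent.ChevalleyStructure.Elts Cfsg.Agent.ChevalleyStructure.NPerm
  Cfsg.Agent.Nodes.RGDChev

local notation "SL2 " F => Matrix.SpecialLinearGroup (Fin 2) F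

theorem two_nodes {i j : Fin 2} (hne : i ≠ j) (k : Fin 2) : k = i ∨ k = j := by
  revert i j k
  decide

theorem diag_comm {D : ChevalleyDatum} (hD : InList D) {K : Type*} [Field K] {x y : GL D.Idx K} (hx : x ∈ D.diagonalSubgroup K)
    (hy : y ∈ D.diagonalSubgroup K) : x * y = y * x := by
  obtain ⟨χ, hχ⟩ := HMatDiagAll.mem_torus.1 (HMatDiagAll.diagonalSubgroup_le_torus hD hx)
  obtain ⟨ψ, hψ⟩ := HMatDiagAll.mem_torus.1 (HMatDiagAll.diagonalSubgroup_le_torus hD hy)
  apply Units.ext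
  rw [Units.val_mul, Units.val_mul, hχ, hψ, Matrix.diagonal_mul_diagonal, Matrix.diagonal_mul_diagonal]
  congr 1
  funext i
  exact mul_comm _ _

section Chev

variable {D : ChevalleyDatum} {M : CoxeterMatrix (Fin 2)} (hp : IsType D 2 M) {K : Type*} [Field K]

/-- the homomorphism of the node `i` -/
noncomputable def nh (i : Fin 2) : (SL2 K) →* ↥(D.group K) :=
  (psi hp.inList K (D.simple i)).codRestrict (D.group K) fun g => by
    have h1 : D.rootSubgroup K (D.simple i) ⊔ D.rootSubgroup K (D.neg (D.simple i)) ≤ D.group K := by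
      rw [← XV_sr hp, ← XV_neg_sr hp]
      exact sup_le (XV_le_group hp _) (XV_le_group hp _)
    exact h1 (psi_mem hp.inList (simple_lt hp.inList (lt_rank hp i)) g)

theorem coe_nh (i : Fin 2) (s : SL2 K) : ((nh hp i s : ↥(D.group K)) : GL D.Idx K) = psi hp.inList K (D.simple i) s := rfl

theorem nd_chev {W : Type*} [Group W] (cs : CoxeterSystem M W) (i : Fin 2) :
    Nd cs hp.isCartan ((D.diagonalSubgroup K).subgroupOf (D.group K))
      (fun i => (⟨nn hp K i, nn_mem_group hp i⟩ : ↥(D.group K)))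
      (fun x => (XV D 2 K x).subgroupOf (D.group K)) i (nh hp i) where
  mem_X g := by
    have hs := simple_lt hp.inList (lt_rank hp i)
    rw [Subgroup.mem_subgroupOf, XV_sr hp, mem_rootSubgroup_iff hp.inList]
    refine exists_congr fun a => ?_
    rw [← psi_up hp.inList hs, ← coe_nh hp]
    exact ⟨fun h => Subtype.ext h, fun h => congrArg Subtype.val h⟩
  w1 := by
    apply Subtype.ext
    rw [coe_nh, psi_wS hp.inList (simple_lt hp.inList (lt_rank hp i))]
    rfl
  h1 d hd := by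
    have hs := simple_lt hp.inList (lt_rank hp i)
    rw [Subgroup.mem_subgroupOf, coe_nh, psi_hS hp.inList hs]
    exact hG_mem_diagonal hp.inList hs hd
  inj_up a b hab := by
    have hs := simple_lt hp.inList (lt_rank hp i)
    have h1 := congrArg Subtype.val hab
    rw [coe_nh, coe_nh, psi_up hp.inList hs, psi_up hp.inList hs] at h1
    exact xG_injective hp.inList hs h1

theorem nh_act (i j : Fin 2) {c : K} (hc : c ≠ 0) (t : K) :
    nh hp i (hS c) * nh hp j (up t) * (nh hp i (hS c))⁻¹ = nh hp j (up (c ^ D.cartan i (D.simple j) * t)) := by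
  apply Subtype.ext
  have hi := simple_lt hp.inList (lt_rank hp i)
  have hj := simple_lt hp.inList (lt_rank hp j)
  rw [Subgroup.coe_mul, Subgroup.coe_mul, Subgroup.coe_inv, coe_nh, coe_nh, coe_nh, psi_hS hp.inList hi,
    psi_up hp.inList hj, psi_up hp.inList hj]
  exact Cfsg.Agent.ChevalleyStructure.BruhatSplit.hG_simple_conj hp.inList (lt_rank hp i) hj hc t

end Chev

theorem isTypeG2 : IsType chevG2 2 CoxeterMatrix.G₂ := by simp [IsType, typeList]

theorem cartan01 : chevG2.cartan ((0 : Fin 2) : ℕ) (chevG2.simple ((1 : Fin 2) : ℕ)) = -3 := by decide +kernel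
theorem cartan10 : chevG2.cartan ((1 : Fin 2) : ℕ) (chevG2.simple ((0 : Fin 2) : ℕ)) = -1 := by decide +kernel

/-- **Task 920: `G₂(q)`, `q` even.** -/
theorem g_two (F : Type*) [Field F] [Fintype F] [CharP F 2] (hF : 3 ≤ Fintype.card F) : RatOdd (Lie.chevG2.group F) := by
  have : Fact (Nat.Prime 2) := ⟨Nat.prime_two⟩
  have : Finite CoxeterMatrix.G₂.Group := finite_W isTypeG2 CoxeterMatrix.G₂.toCoxeterSystem
  have R := Cfsg.Agent.Nodes.RGDChev.rgd (K := F) isTypeG2 CoxeterMatrix.G₂.toCoxeterSystem 2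
  have hG : GG CoxeterMatrix.G₂.toCoxeterSystem isTypeG2.isCartan ((chevG2.diagonalSubgroup F).subgroupOf (chevG2.group F))
      (fun x => (XV chevG2 2 F x).subgroupOf (chevG2.group F)) = ⊤ :=
    Cfsg.Agent.KFacts.RgdFilt.GG_eq_top (Cfsg.Agent.Nodes.RGDChev.G1_eq_top isTypeG2 _)
  have hT : ∀ x ∈ (chevG2.diagonalSubgroup F).subgroupOf (chevG2.group F),
      ∀ y ∈ (chevG2.diagonalSubgroup F).subgroupOf (chevG2.group F), x * y = y * x := by
    intro x hx y hy
    exact Subtype.ext (diag_comm isTypeG2.inList (Subgroup.mem_subgroupOf.1 hx) (Subgroup.mem_subgroupOf.1 hy))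
  have hM : CoxeterMatrix.G₂ (1 : Fin 2) (0 : Fin 2) = 6 := by decide +kernel
  have N0 := nd_chev (K := F) isTypeG2 CoxeterMatrix.G₂.toCoxeterSystem 0
  have N1 := nd_chev (K := F) isTypeG2 CoxeterMatrix.G₂.toCoxeterSystem 1
  by_cases h3 : 3 ∣ Nat.card F - 1
  · obtain ⟨lam, hl3, hl1⟩ := exists_lam (F := F) (by rwa [Nat.card_units])
    refine ratOdd_two_lin R hG (two_nodes (by decide)) hM hT N1 N0 lam lam hl3 hl3 hl1 (fun s => s⁻¹ ^ 3) ?_
      (fun s => s⁻¹) ?_ ?_ ?_
    · intro s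
      rw [nh_act isTypeG2 0 1 s.ne_zero 1, cartan01]
      congr 3
      rw [Units.val_pow_eq_pow_val, Units.val_inv_eq_inv_val, zpow_neg, inv_pow]
      congr 1
      exact zpow_natCast (s : F) 3
    · intro s
      rw [nh_act isTypeG2 1 0 s.ne_zero 1, cartan10]
      congr 3
      rw [Units.val_inv_eq_inv_val, zpow_neg, zpow_one]
    · intro s
      rw [map_pow, hl3]
    · intro s
      rw [map_inv]
  · exact ratOdd_two_cusp R hG (two_nodes (by decide)) hM hT N1 h3

end Cfsg.Agent.H619.Gow
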