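import Cfsg.Agent.H619.Gow.LeviSplit

/-!
# The Weyl group of type `G₂` and the double cosets of a maximal parabolic subgroup (S4913, helper619)

`I = {i, j}`, `M i j = 6`: every element outside `P_i` is `p g p'` with `p, p' ∈ P_i` and `g` over `s_j`,
`s_j s_i s_j` or `s_j s_i s_j s_i s_j`; the action of these elements on `α_i`.
-/

set_option autoImplicit false

open Cfsg

namespace Cfsg.Agent.H619.Gow

open CoxeterSystem Cfsg.Agent.ChevalleyStructure.CoxeterGeom Cfsg.Agent.Tits.Roots Cfsg.Agent.Tits.Core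
  Cfsg.Agent.Tits.Exchange Cfsg.Agent.Nodes.Reps Cfsg.Agent.Nodes.BNOf Cfsg.Agent.Nodes.StabComb
  Cfsg.Agent.Nodes.Bruhat Cfsg.Agent.Nodes.OppDec Cfsg.Agent.Nodes.LeviDec Cfsg.Agent.H53.HC

variable {I W Y : Type*} [Fintype I] [DecidableEq I] [Group W] [Group Y] {M : CoxeterMatrix I}
  {cs : CoxeterSystem M W} {A : I → I → ℤ} {h : IsCartan M A} {p : ℕ} {T : Subgroup Y} {n : I → Y}
  {X : (I → ℤ) → Subgroup Y} {i j : I}

/-- the three representatives -/
def v1 (cs : CoxeterSystem M W) (j : I) : W := cs.simple j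
/-- the three representatives -/
def v3 (cs : CoxeterSystem M W) (i j : I) : W := cs.simple j * cs.simple i * cs.simple j
/-- the three representatives -/
def v5 (cs : CoxeterSystem M W) (i j : I) : W := cs.simple j * cs.simple i * cs.simple j * cs.simple i * cs.simple j

theorem v1_inv : (v1 cs j)⁻¹ = v1 cs j := cs.inv_simple j

theorem v3_inv : (v3 cs i j)⁻¹ = v3 cs i j := by
  unfold v3
  rw [mul_inv_rev, mul_inv_rev, cs.inv_simple, cs.inv_simple, mul_assoc]

theorem v5_inv : (v5 cs i j)⁻¹ = v5 cs i j := by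
  unfold v5
  simp only [mul_inv_rev, cs.inv_simple, mul_assoc]

theorem braid (hij : M i j = 6) : (cs.simple i * cs.simple j) ^ 6 = 1 := by
  rw [← hij]
  exact cs.simple_mul_simple_pow i j

/-- **The normal form.** -/
theorem exists_word (hI : ∀ k : I, k = i ∨ k = j) (hij : M i j = 6) (w : W) :
    ∃ a b v : W, (a = 1 ∨ a = cs.simple i) ∧ (b = 1 ∨ b = cs.simple i) ∧
      (v = 1 ∨ v = v1 cs j ∨ v = v3 cs i j ∨ v = v5 cs i j) ∧ w = a * v * b := by
  set s := cs.simple i with hs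
  set t := cs.simple j with ht
  have hss : s * s = 1 := cs.simple_mul_simple_self i
  have htt : t * t = 1 := cs.simple_mul_simple_self j
  have hb : (s * t) ^ 6 = 1 := braid hij
  have hss' : ∀ x, s * (s * x) = x := fun x => by rw [← mul_assoc, hss, one_mul]
  have htt' : ∀ x, t * (t * x) = x := fun x => by rw [← mul_assoc, htt, one_mul]
  have hb2 : s * (t * (s * (t * (s * t)))) = t * (s * (t * (s * (t * s)))) := by
    have h1 : s * (t * (s * (t * (s * (t * (s * (t * (s * (t * (s * t)))))))))) = 1 := by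
      rw [← hb]
      simp only [pow_succ, pow_zero, one_mul, mul_assoc]
    have h2 := congrArg (fun x => t * (s * (t * (s * (t * (s * x)))))) h1
    simp only [hss', htt', mul_one] at h2
    exact h2
  have e1 : v1 cs j = t := rfl
  have e3 : v3 cs i j = t * (s * t) := by unfold v3; rw [mul_assoc]
  have e5 : v5 cs i j = t * (s * (t * (s * t))) := by unfold v5; simp only [mul_assoc]; rfl
  obtain ⟨ω, rfl⟩ := cs.wordProd_surjective w
  induction ω with
  | nil =>
    exact ⟨1, 1, 1, Or.inl rfl, Or.inl rfl, Or.inl rfl, by rw [wordProd_nil]; simp⟩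
  | cons k ω ih =>
    obtain ⟨a, b, v, ha, hb', hv, e⟩ := ih
    rw [wordProd_cons, e]
    rcases hI k with rfl | rfl
    · -- left multiplication by `s`
      rcases ha with rfl | rfl
      · exact ⟨s, b, v, Or.inr rfl, hb', hv, by rw [one_mul, mul_assoc]⟩
      · exact ⟨1, b, v, Or.inl rfl, hb', hv, by rw [one_mul, ← mul_assoc, ← mul_assoc, hss, one_mul]⟩
    · rcases ha with rfl | rfl
      · rcases hv with rfl | rfl | rfl | rfl
        · exact ⟨1, b, t, Or.inl rfl, hb', Or.inr (Or.inl rfl), by simp [ht]⟩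
        · exact ⟨1, b, 1, Or.inl rfl, hb', Or.inl rfl, by rw [e1, ← ht]; simp [htt, htt']⟩
        · exact ⟨s, b, t, Or.inr rfl, hb', Or.inr (Or.inl rfl), by rw [e3, ← ht]; simp [mul_assoc, htt']⟩
        · exact ⟨s, b, v3 cs i k, Or.inr rfl, hb', Or.inr (Or.inr (Or.inl rfl)), by
            rw [e5, e3, ← ht]; simp [mul_assoc, htt']⟩
      · rcases hv with rfl | rfl | rfl | rfl
        · rcases hb' with rfl | rfl
          · exact ⟨1, s, t, Or.inl rfl, Or.inr rfl, Or.inr (Or.inl rfl), by rw [← ht]; simp⟩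
          · exact ⟨1, 1, t, Or.inl rfl, Or.inl rfl, Or.inr (Or.inl rfl), by rw [← ht]; simp [hss]⟩
        · exact ⟨1, b, v3 cs i k, Or.inl rfl, hb', Or.inr (Or.inr (Or.inl rfl)), by
            rw [e3, e1, ← ht]; simp [mul_assoc]⟩
        · exact ⟨1, b, v5 cs i k, Or.inl rfl, hb', Or.inr (Or.inr (Or.inr rfl)), by
            rw [e3, e5, ← ht]; simp [mul_assoc]⟩
        · have h3 : t * (s * (v5 cs i k) * b) = s * v3 cs i k * (s * b) := by
            rw [e5, e3]
            simp only [mul_assoc]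
            have h4 : s * (t * (s * (t * (s * (t * b))))) = t * (s * (t * (s * (t * (s * b))))) := by
              have := congrArg (fun x => x * b) hb2
              simpa only [mul_assoc] using this
            rw [h4, htt']
          rcases hb' with rfl | rfl
          · exact ⟨s, s, v3 cs i k, Or.inr rfl, Or.inr rfl, Or.inr (Or.inr (Or.inl rfl)), by
              rw [← ht, h3, mul_one]⟩
          · exact ⟨s, 1, v3 cs i k, Or.inr rfl, Or.inl rfl, Or.inr (Or.inr (Or.inl rfl)), by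
              rw [← ht, h3, hss]⟩

/-- **Double coset representatives.** -/
theorem exists_rep [Finite W] (R : RGD cs h p T n X) (hG : GG cs h T X = ⊤) (hI : ∀ k : I, k = i ∨ k = j)
    (hij : M i j = 6) {x : Y} (hx : x ∉ PJ cs h T X {i}) : ∃ a ∈ PJ cs h T X {i}, ∃ b ∈ PJ cs h T X {i}, ∃ v g,
      Rp cs R.nsys v g ∧ x = a * g * b ∧ (v = v1 cs j ∨ v = v3 cs i j ∨ v = v5 cs i j) := by
  obtain ⟨w, b₁, hb₁, k, hk, b₂, hb₂, e⟩ := (mem_GG R).1 (show x ∈ GG cs h T X by rw [hG]; exact Subgroup.mem_top x)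
  obtain ⟨a, b, v, ha, hb, hv, rfl⟩ := exists_word (cs := cs) hI hij w
  obtain ⟨ka, hka⟩ := exists_rp cs R.nsys a
  obtain ⟨kv, hkv⟩ := exists_rp cs R.nsys v
  obtain ⟨kb, hkb⟩ := exists_rp cs R.nsys b
  have hsW : cs.simple i ∈ WJ cs ({i} : Set I) := Subgroup.subset_closure ⟨i, rfl, rfl⟩
  have haW : a ∈ WJ cs ({i} : Set I) := by
    rcases ha with rfl | rfl
    · exact one_mem _
    · exact hsW
  have hbW : b ∈ WJ cs ({i} : Set I) := by
    rcases hb with rfl | rfl
    · exact one_mem _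
    · exact hsW
  have hkaP : ka ∈ PJ cs h T X {i} := LJ_le_PJ (rp_mem_LJ R haW hka)
  have hkbP : kb ∈ PJ cs h T X {i} := LJ_le_PJ (rp_mem_LJ R hbW hkb)
  have ht := Rp.unique ((hka.mul hkv).mul hkb) hk
  have htP : (ka * kv * kb)⁻¹ * k ∈ PJ cs h T X {i} := LJ_le_PJ (T_le_LJ ht)
  have e2 : x = b₁ * ka * kv * (kb * ((ka * kv * kb)⁻¹ * k) * b₂) := by
    rw [e]; group
  have h1 : b₁ * ka ∈ PJ cs h T X {i} := mul_mem (B_le_PJ hb₁) hkaP
  have h2 : kb * ((ka * kv * kb)⁻¹ * k) * b₂ ∈ PJ cs h T X {i} := mul_mem (mul_mem hkbP htP) (B_le_PJ hb₂)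
  rcases hv with rfl | hv
  · exfalso
    apply hx
    rw [e2]
    exact mul_mem (mul_mem h1 (LJ_le_PJ (T_le_LJ hkv.mem_of_one))) h2
  · exact ⟨_, h1, _, h2, v, kv, hkv, e2, hv⟩

theorem rep_comb_i (x y : ℤ) : rep cs h (cs.simple i) (x • sr i + y • sr j) = (-x - A i j * y) • sr i + y • sr j := by
  rw [rep_simple_eq, pairing_add, pairing_smul, pairing_smul]
  unfold sr
  rw [pairing_single, pairing_single, h.diag i, mul_one, mul_one]
  have : (-x - A i j * y) = x - (x * 2 + y * A i j) := by ring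
  rw [this, sub_smul]
  abel

theorem rep_comb_j (x y : ℤ) : rep cs h (cs.simple j) (x • sr i + y • sr j) = x • sr i + (-y - A j i * x) • sr j := by
  rw [add_comm, rep_comb_i (i := j) (j := i), add_comm]

/-- the entries of the Cartan matrix -/
theorem cartan_six (h : IsCartan M A) (hne : i ≠ j) (hij : M i j = 6) : A i j < 0 ∧ A j i < 0 ∧ A i j * A j i = 3 := by
  rcases h.rel i j hne with ⟨h1, -⟩ | ⟨h1, -⟩ | ⟨h1, -⟩ | ⟨-, ⟨h1, h2⟩ | ⟨h1, h2⟩⟩
  · omega
  · omega
  · omega
  · rw [h1, h2]; norm_num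
  · rw [h1, h2]; norm_num

theorem rep_v1 : rep cs h (v1 cs j) (sr i) = (1 : ℤ) • sr i + (-A j i) • sr j := by
  have h1 : (sr i : I → ℤ) = (1 : ℤ) • sr i + (0 : ℤ) • sr j := by rw [one_smul, zero_smul, add_zero]
  unfold v1
  conv_lhs => rw [h1]
  rw [rep_comb_j]
  congr 2
  ring

theorem rep_v3 (hne : i ≠ j) (hij : M i j = 6) :
    rep cs h (v3 cs i j) (sr i) = (2 : ℤ) • sr i + (-A j i) • sr j := by
  obtain ⟨-, -, h3⟩ := cartan_six h hne hij
  unfold v3
  rw [rep_mul_apply, rep_mul_apply]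
  have := rep_v1 (cs := cs) (h := h) (i := i) (j := j)
  unfold v1 at this
  rw [this, rep_comb_i, rep_comb_j]
  congr 2
  · linear_combination h3
  · linear_combination -(A j i) * h3

theorem rep_v5 (hne : i ≠ j) (hij : M i j = 6) : rep cs h (v5 cs i j) (sr i) = sr i := by
  obtain ⟨-, -, h3⟩ := cartan_six h hne hij
  have h1 : rep cs h (v5 cs i j) (sr i) = rep cs h (cs.simple j) (rep cs h (cs.simple i) (rep cs h (v3 cs i j) (sr i))) := by
    rw [← rep_mul_apply, ← rep_mul_apply]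
    congr 2
    unfold v5 v3
    simp only [mul_assoc]
  rw [h1, rep_v3 hne hij, rep_comb_i, rep_comb_j]
  have e1 : -2 - A i j * -A j i = 1 := by linear_combination h3
  have e2 : - -A j i - A j i * (-2 - A i j * -A j i) = 0 := by linear_combination -(A j i) * h3
  rw [e2, e1, one_smul, zero_smul, add_zero]

theorem comb_mem_NotJ (hne : i ≠ j) {x y : ℤ} (hr : IsRoot cs h (x • sr i + y • sr j : I → ℤ)) (hx : 0 ≤ x) (hy : 0 < y) :
    (x • sr i + y • sr j : I → ℤ) ∈ NotJ cs h {i} := by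
  refine ⟨hr, ?_, j, fun h1 => hne h1.symm, ?_⟩
  · refine add_nonneg (smul_nonneg hx ?_) (smul_nonneg hy.le ?_)
    · intro k
      unfold sr
      rw [Pi.single_apply]
      split_ifs <;> simp
    · intro k
      unfold sr
      rw [Pi.single_apply]
      split_ifs <;> simp
  · rw [Pi.add_apply, Pi.smul_apply, Pi.smul_apply, sr_self, sr_ne hne.symm]
    simpa using hy

theorem v1_mem (hne : i ≠ j) (hij : M i j = 6) : rep cs h (v1 cs j)⁻¹ (sr i) ∈ NotJ cs h {i} := by
  obtain ⟨-, h2, -⟩ := cartan_six h hne hij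
  rw [v1_inv]
  have hr := (isRoot_sr cs h i).act (v1 cs j)
  rw [rep_v1 (i := i)] at hr ⊢
  exact comb_mem_NotJ hne hr (by norm_num) (by omega)

theorem v3_mem (hne : i ≠ j) (hij : M i j = 6) : rep cs h (v3 cs i j)⁻¹ (sr i) ∈ NotJ cs h {i} := by
  obtain ⟨-, h2, -⟩ := cartan_six h hne hij
  rw [v3_inv]
  have hr := (isRoot_sr cs h i).act (v3 cs i j)
  rw [rep_v3 hne hij] at hr ⊢
  exact comb_mem_NotJ hne hr (by norm_num) (by omega)

end Cfsg.Agent.H619.Gow
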